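import Groth.Agent.ChGrpH.BalProd
import Groth.Agent.EtaleBase.FpqcDescent
import Groth.Agent.GrpschAbsch.FibreFlat
import Groth.Agent.GrpschAbsch.Cartier
import Groth.Agent.GitQuot.FppfSourceScheme
import Groth.Agent.AlgGrp1.Basic
import Groth.Prelude.Def_RedSub
import Groth.Agent.AlgGrp2.Basic
import Groth.Prelude.Def_AlgGrp

/-!
# Quotients assembled from two affine pieces (helper34)
-/

set_option autoImplicit false

universe u

open CategoryTheory CategoryTheory.Limits MonoidalCategory CartesianMonoidalCategory MonObj AlgebraicGeometry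
open Groth.ChGrpH

namespace Groth.PrincBundAff

variable {S : Scheme.{u}}

/-- An fppf cover has local sections. -/
theorem hasLocSections_of_fppf {X Y : Over S} (p : X ⟶ Y) [Flat p.left] [Surjective p.left]
    [LocallyOfFinitePresentation p.left] : HasLocSections p := by
  intro T y
  refine ⟨Presieve.singleton (pullback.snd p.left y.left), ?_, ?_⟩
  · rw [← Presieve.ofArrows_pUnit.{0}]
    refine (Scheme.ofArrows_mem_precoverage_iff _).2 ⟨fun x => ⟨PUnit.unit,
      (pullback.snd p.left y.left).surjective x⟩, fun _ => ⟨inferInstance, inferInstance⟩⟩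
  · rintro U f ⟨⟩
    exact ⟨pullback.fst p.left y.left, pullback.condition⟩

/-- Equality of points can be checked on an fppf cover. -/
theorem eq_of_hasLocSections {X T Z : Over S} {c : X ⟶ T} (hc : HasLocSections c) {a b : T ⟶ Z}
    (h : c ≫ a = c ≫ b) : a = b := hc.hom_ext h

variable {G H Q : Over S} [GrpObj G] [GrpObj H] {i : H ⟶ G} {q : G ⟶ Q}

/-- Points of a quotient. -/
theorem quot_eq (hq : RedSub.IsQuotient i q) {T : Over S} (g : T ⟶ G) (h : T ⟶ H) :
    (g * (h ≫ i)) ≫ q = g ≫ q := by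
  have e := congrArg (lift g h ≫ ·) hq.2.2.2.w
  simp only [lift_fst_assoc, Category.assoc, lift_whiskerLeft_assoc] at e
  rw [Hom.mul_def, Category.assoc]
  exact e.symm

theorem quot_exists_of_eq (hq : RedSub.IsQuotient i q) {T : Over S} {g g' : T ⟶ G}
    (e : g' ≫ q = g ≫ q) : ∃ h : T ⟶ H, g' = g * (h ≫ i) := by
  obtain ⟨l, hl₁, hl₂⟩ := hq.2.2.2.exists_lift g g' e.symm
  refine ⟨l ≫ snd G H, ?_⟩
  have el : l = lift g (l ≫ snd G H) := by
    rw [← hl₁]; exact point_eq_lift l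
  rw [← hl₂, el, lift_whiskerLeft_assoc, ← Hom.mul_def, lift_snd]

theorem hasLocSections_of_isQuotient (hq : RedSub.IsQuotient i q) : HasLocSections q :=
  have := hq.1
  have := hq.2.1
  have := hq.2.2.1
  hasLocSections_of_fppf q

section Pieces

variable {k : Type u} [Field k] [CharZero k] {G G' G₀ G₁ G₀' G₁' Qa Qb Q : Over (Spec (CommRingCat.of k))}
  [GrpObj G] [GrpObj G'] [GrpObj G₀] [GrpObj G₁] [GrpObj G₀'] [GrpObj G₁']
  {i' : G' ⟶ G} [IsMonHom i'] {i₀ : G₀ ⟶ G} [IsMonHom i₀] {q₁ : G ⟶ G₁} [IsMonHom q₁]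
  {j : G₀' ⟶ G₀} [IsMonHom j] {j' : G₀' ⟶ G'} {i₁' : G₁' ⟶ G₁} [IsMonHom i₁'] {p : G' ⟶ G₁'}
  {qa : G₀ ⟶ Qa} {qb : G₁ ⟶ Qb} {q : G ⟶ Q}

/-- The quotient is affine when both pieces are. -/
theorem isAffine_of_pieces [IsAffine G.left] [LocallyOfFiniteType G.hom]
    (hi' : IsClosedImmersion i'.left) (hi₁' : IsClosedImmersion i₁'.left)
    (hq₁ : RedSub.IsQuotient i₀ q₁) (hj : IsPullback j j' i₀ i')
    (hp : p ≫ i₁' = i' ≫ q₁) (hps : Surjective p.left)
    (hqa : RedSub.IsQuotient j qa) (ha : IsAffine Qa.left)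
    (hqb : RedSub.IsQuotient i₁' qb) (hb : IsAffine Qb.left) (hq : RedSub.IsQuotient i' q) :
    IsAffine Q.left := by
  have := hq₁.1; have := hq₁.2.1; have := hq₁.2.2.1
  have := hqb.1; have := hqb.2.1; have := hqb.2.2.1
  have := hqa.1; have := hqa.2.1; have := hqa.2.2.1
  have hq₁hom : q₁.left ≫ G₁.hom = G.hom := Over.w q₁
  have : LocallyOfFiniteType (q₁.left ≫ G₁.hom) := hq₁hom.symm ▸ inferInstance
  have : LocallyOfFiniteType G₁.hom := Groth.GitQuot.FppfSource.locallyOfFiniteType_of_fppf q₁.left G₁.hom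
  have : LocallyOfFiniteType G₁'.hom := by rw [← Over.w i₁']; infer_instance
  have : LocallyOfFiniteType G'.hom := by rw [← Over.w i']; infer_instance
  have := GrpschAbsch.smooth_of_charZero G₁'
  have := Groth.GrpschAbsch.FibreFlat.geometricallyReduced_of_smooth G₁'.hom
  have : Mono i₁' := mono_of_mono_left i₁'
  have : IsMonHom p := IsMonHom.mk
    (by rw [← cancel_mono i₁', Category.assoc, hp, IsMonHom.one_hom_assoc, IsMonHom.one_hom, IsMonHom.one_hom])
    (by rw [← cancel_mono i₁', Category.assoc, hp, IsMonHom.mul_hom_assoc, IsMonHom.mul_hom, Category.assoc,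
      IsMonHom.mul_hom, tensorHom_comp_tensorHom_assoc, tensorHom_comp_tensorHom_assoc, hp])
  have : Flat p.left := Groth.GrpschAbsch.FibreFlat.flat_of_surjective_field p
  have : LocallyOfFinitePresentation p.left := Groth.AlgGrp1.lfp_left p
  -- the map to the second piece
  obtain ⟨r, hr⟩ := (hasLocSections_of_isQuotient hq).exists_desc (q₁ ≫ qb) (fun T a b e => by
    obtain ⟨g', rfl⟩ := quot_exists_of_eq hq e.symm
    rw [← Category.assoc (a * _), mul_comp, Category.assoc g', ← hp, ← Category.assoc g', quot_eq hqb,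
      Category.assoc])
  -- the map from the product
  obtain ⟨ψ, hψ⟩ := (hasLocSections_whisker' (G := G) (hasLocSections_of_isQuotient hqa)).exists_desc
    ((fst G G₀ * (snd G G₀ ≫ i₀)) ≫ q) (fun T a b e => by
      rw [point_eq_lift a, point_eq_lift b, lift_whiskerLeft, lift_whiskerLeft] at e
      have e₁ : a ≫ fst G G₀ = b ≫ fst G G₀ := by simpa using congrArg (· ≫ fst G Qa) e
      have e₂ : (b ≫ snd G G₀) ≫ qa = (a ≫ snd G G₀) ≫ qa := by simpa using (congrArg (· ≫ snd G Qa) e).symm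
      obtain ⟨h, hh⟩ := quot_exists_of_eq hqa e₂
      rw [← Category.assoc a, ← Category.assoc b, comp_mul, comp_mul, ← e₁, ← Category.assoc b, hh,
        MonObj.mul_comp (g := i₀),
        ← _root_.mul_assoc, Category.assoc h, hj.w, ← Category.assoc h j', quot_eq hq, Category.assoc a])
  have hψP : ∀ {T : Over (Spec (CommRingCat.of k))} (g : T ⟶ G) (g₀ : T ⟶ G₀),
      lift g (g₀ ≫ qa) ≫ ψ = (g * (g₀ ≫ i₀)) ≫ q := by
    intro T g g₀
    rw [← lift_whiskerLeft, Category.assoc, hψ, ← Category.assoc, comp_mul, lift_fst, lift_snd_assoc]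
  -- the kernel of `q₁`
  have hker : ∀ {T : Over (Spec (CommRingCat.of k))} (n : T ⟶ G₀), (n ≫ i₀) ≫ q₁ = 1 := by
    intro T n
    have e := quot_eq hq₁ (1 : T ⟶ G) n
    rw [_root_.one_mul] at e
    rw [e, one_comp]
  have hrq : ∀ {T : Over (Spec (CommRingCat.of k))} (g : T ⟶ G), (g ≫ q) ≫ r = (g ≫ q₁) ≫ qb := by
    intro T g
    rw [Category.assoc, hr, Category.assoc]
  have hw : ψ ≫ r = fst G Qa ≫ q₁ ≫ qb :=
    (hasLocSections_whisker' (G := G) (hasLocSections_of_isQuotient hqa)).hom_ext (by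
      rw [reassoc_of% hψ, ← Category.assoc (fst G G₀ * _), hrq, mul_comp, hker, _root_.mul_one,
        whiskerLeft_fst_assoc, Category.assoc])
  have huniq : ∀ (T : Over (Spec (CommRingCat.of k))) (l l' : T ⟶ G ⊗ Qa),
      l ≫ ψ = l' ≫ ψ → l ≫ fst G Qa = l' ≫ fst G Qa → l = l' := by
    intro T l l' e₁ e₂
    apply CartesianMonoidalCategory.hom_ext _ _ e₂
    -- lift both second components
    let c₁ : pullback qa (l ≫ snd G Qa) ⟶ T := pullback.snd _ _
    let c₂ : pullback qa (c₁ ≫ l' ≫ snd G Qa) ⟶ pullback qa (l ≫ snd G Qa) := pullback.snd _ _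
    have h₁ : HasLocSections c₁ := (hasLocSections_pullback _).1
    have h₂ : HasLocSections c₂ := (hasLocSections_pullback _).1
    refine h₁.hom_ext (h₂.hom_ext ?_)
    have f₁ : (c₂ ≫ pullback.fst qa (l ≫ snd G Qa)) ≫ qa = c₂ ≫ c₁ ≫ l ≫ snd G Qa := by
      rw [Category.assoc, pullback.condition]
    have f₂ : pullback.fst qa (c₁ ≫ l' ≫ snd G Qa) ≫ qa = c₂ ≫ c₁ ≫ l' ≫ snd G Qa := pullback.condition
    have g₁ : lift (c₂ ≫ c₁ ≫ l ≫ fst G Qa) ((c₂ ≫ pullback.fst qa (l ≫ snd G Qa)) ≫ qa) = c₂ ≫ c₁ ≫ l := by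
      rw [f₁]; exact (point_eq_lift (c₂ ≫ c₁ ≫ l)).symm.trans (by simp)
    have g₂ : lift (c₂ ≫ c₁ ≫ l ≫ fst G Qa) (pullback.fst qa (c₁ ≫ l' ≫ snd G Qa) ≫ qa) = c₂ ≫ c₁ ≫ l' := by
      rw [f₂, e₂]; exact (point_eq_lift (c₂ ≫ c₁ ≫ l')).symm.trans (by simp)
    have e₃ : (c₂ ≫ c₁ ≫ l) ≫ ψ = (c₂ ≫ c₁ ≫ l') ≫ ψ := by simp only [Category.assoc, e₁]
    rw [← g₁, ← g₂, hψP, hψP] at e₃
    obtain ⟨h, hh⟩ := quot_exists_of_eq hq e₃.symm
    rw [_root_.mul_assoc, mul_left_cancel_iff] at hh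
    obtain ⟨m, hm₁, hm₂⟩ := hj.exists_lift ((c₂ ≫ pullback.fst qa (l ≫ snd G Qa))⁻¹ *
      pullback.fst qa (c₁ ≫ l' ≫ snd G Qa)) h (by
        rw [mul_comp, GrpObj.inv_comp, hh, inv_mul_cancel_left])
    have hm : pullback.fst qa (c₁ ≫ l' ≫ snd G Qa) = (c₂ ≫ pullback.fst qa (l ≫ snd G Qa)) * (m ≫ j) := by
      rw [hm₁, mul_inv_cancel_left]
    rw [← f₁, ← f₂, hm, quot_eq hqa]
  have hex : ∀ (T : Over (Spec (CommRingCat.of k))) (y : T ⟶ Q) (g : T ⟶ G), y ≫ r = g ≫ q₁ ≫ qb →
      ∃ l : T ⟶ G ⊗ Qa, l ≫ ψ = y ∧ l ≫ fst G Qa = g := by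
    intro T y g e
    let c₁ : pullback q y ⟶ T := pullback.snd _ _
    let h := pullback.fst q y
    obtain ⟨z, hz⟩ := quot_exists_of_eq hqb (g := (c₁ ≫ g) ≫ q₁) (g' := h ≫ q₁) (by
      rw [← hrq, pullback.condition, Category.assoc, e]
      simp only [Category.assoc]
      rfl)
    let c₂ : pullback p z ⟶ pullback q y := pullback.snd _ _
    let g' := pullback.fst p z
    have hg' : g' ≫ p = c₂ ≫ z := pullback.condition
    have key : ((c₂ ≫ c₁ ≫ g)⁻¹ * (c₂ ≫ h) * (g' ≫ i')⁻¹) ≫ q₁ = (1 : _ ⟶ G) ≫ q₁ := by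
      simp only [mul_comp, GrpObj.inv_comp, one_comp, Category.assoc]
      rw [hz, comp_mul, ← hp, ← Category.assoc g', hg']
      simp only [Category.assoc]
      rw [inv_mul_cancel_left, mul_inv_cancel]
    obtain ⟨n, hn⟩ := quot_exists_of_eq hq₁ key
    rw [_root_.one_mul] at hn
    let c := c₂ ≫ c₁
    have hc : HasLocSections c := by
      obtain ⟨-, _, _, _⟩ := hasLocSections_pullback (p := p) z
      have := hq.1; have := hq.2.1; have := hq.2.2.1
      obtain ⟨-, _, _, _⟩ := hasLocSections_pullback (p := q) y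
      have : Flat c.left := inferInstanceAs (Flat (c₂.left ≫ c₁.left))
      have : Surjective c.left := inferInstanceAs (Surjective (c₂.left ≫ c₁.left))
      have : LocallyOfFinitePresentation c.left :=
        inferInstanceAs (LocallyOfFinitePresentation (c₂.left ≫ c₁.left))
      exact hasLocSections_of_fppf c
    have hcl : lift (c ≫ g) (n ≫ qa) ≫ ψ = c ≫ y := by
      rw [hψP, ← hn, Category.assoc, _root_.mul_assoc, mul_inv_cancel_left, ← GrpObj.inv_comp, quot_eq hq,
        Category.assoc, pullback.condition, ← Category.assoc]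
    obtain ⟨l, hl⟩ := hc.exists_desc (lift (c ≫ g) (n ≫ qa)) (fun U a b eab => by
      refine huniq U _ _ ?_ ?_
      · rw [Category.assoc a, hcl, Category.assoc b, hcl, ← Category.assoc, eab, Category.assoc]
      · rw [Category.assoc a, lift_fst, Category.assoc b, lift_fst, ← Category.assoc, eab, Category.assoc])
    refine ⟨l, hc.hom_ext ?_, hc.hom_ext ?_⟩
    · rw [← Category.assoc, hl, hcl]
    · rw [← Category.assoc, hl, lift_fst]
  have sq : IsPullback ψ (fst G Qa) r (q₁ ≫ qb) := isPullback_of_points hw hex huniq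
  have : IsAffineHom Qa.hom := inferInstance
  have hfst : IsAffineHom (fst G Qa).left :=
    MorphismProperty.of_isPullback (Groth.AlgGrp2.isPullback_fst_snd G Qa).flip ‹IsAffineHom Qa.hom›
  have : Flat (q₁ ≫ qb).left := inferInstanceAs (Flat (q₁.left ≫ qb.left))
  have : Surjective (q₁ ≫ qb).left := inferInstanceAs (Surjective (q₁.left ≫ qb.left))
  have : LocallyOfFinitePresentation (q₁ ≫ qb).left :=
    inferInstanceAs (LocallyOfFinitePresentation (q₁.left ≫ qb.left))
  have hsq := sq.map (Over.forget _)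
  have : QuasiCompact (q₁ ≫ qb).left := by
    have : IsSeparated Qb.hom := inferInstance
    have : QuasiCompact ((q₁ ≫ qb).left ≫ Qb.hom) := by rw [Over.w]; infer_instance
    exact QuasiCompact.of_comp _ Qb.hom
  have : IsAffineHom r.left :=
    MorphismProperty.of_isPullback_of_descendsAlong (P := @IsAffineHom) (Q := Groth.EtaleBase.Fpqc)
      hsq.flip ⟨⟨(‹Surjective (q₁ ≫ qb).left› :), (‹Flat (q₁ ≫ qb).left› :)⟩, (‹QuasiCompact (q₁ ≫ qb).left› :)⟩ hfst
  exact isAffine_of_isAffineHom r.left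
where
  hasLocSections_whisker' {S : Scheme.{u}} {G X X' : Over S} {p : X ⟶ X'} (hp : HasLocSections p) :
      HasLocSections (G ◁ p) := by
    intro T y
    obtain ⟨R, hR, hl⟩ := hp.exists_lift (y ≫ snd G X')
    refine ⟨R, hR, fun U f hf => ?_⟩
    obtain ⟨x, hx⟩ := hl f hf
    refine ⟨(lift ((Over.homMk f : Over.mk (f ≫ T.hom) ⟶ T) ≫ y ≫ fst G X') x).left, ?_⟩
    have h2 : lift ((Over.homMk f : Over.mk (f ≫ T.hom) ⟶ T) ≫ y ≫ fst G X') x ≫ (G ◁ p) = Over.homMk f ≫ y := by
      rw [lift_whiskerLeft, hx, ← comp_lift, ← point_eq_lift]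
    have h3 := congrArg Over.Hom.left h2
    rw [Over.comp_left, Over.comp_left] at h3
    exact h3
  hasLocSections_pullback {S : Scheme.{u}} {X Y T : Over S} {p : X ⟶ Y} [Flat p.left] [Surjective p.left]
      [LocallyOfFinitePresentation p.left] (t : T ⟶ Y) :
      HasLocSections (pullback.snd p t) ∧ Flat (pullback.snd p t).left ∧ Surjective (pullback.snd p t).left ∧
        LocallyOfFinitePresentation (pullback.snd p t).left := by
    have h := ((IsPullback.of_hasPullback p t).map (Over.forget _))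
    have h₁ : Flat (pullback.snd p t).left := MorphismProperty.of_isPullback h ‹Flat p.left›
    have h₂ : Surjective (pullback.snd p t).left := MorphismProperty.of_isPullback h ‹Surjective p.left›
    have h₃ : LocallyOfFinitePresentation (pullback.snd p t).left :=
      MorphismProperty.of_isPullback h ‹LocallyOfFinitePresentation p.left›
    exact ⟨hasLocSections_of_fppf _, h₁, h₂, h₃⟩

end Pieces

end Groth.PrincBundAff
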